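import Mathlib

/-!
A fixed-point-free subgroup of order 48 of `GL_4(13)`: the binary octahedral group.
-/

namespace CfsgLib.SpectrumL33

/-- Product of `4 × 4` matrices modulo 13 stored row by row. -/
def mulL (A B : List ℕ) : List ℕ :=
  (List.range 16).map fun t =>
    (A.getD (4 * (t / 4)) 0 * B.getD (t % 4) 0 +
      A.getD (4 * (t / 4) + 1) 0 * B.getD (4 + t % 4) 0 +
      A.getD (4 * (t / 4) + 2) 0 * B.getD (8 + t % 4) 0 +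
      A.getD (4 * (t / 4) + 3) 0 * B.getD (12 + t % 4) 0) % 13

/-- Sum of matrices modulo 13. -/
def addL (A B : List ℕ) : List ℕ :=
  (List.range 16).map fun t => (A.getD t 0 + B.getD t 0) % 13

/-- The identity matrix. -/
def oneL : List ℕ := [1, 0, 0, 0, 0, 1, 0, 0, 0, 0, 1, 0, 0, 0, 0, 1]

/-- Powers. -/
def powL (A : List ℕ) : ℕ → List ℕ
  | 0 => oneL
  | k + 1 => mulL (powL A k) A

/-- `1 + A + ⋯ + A ^ (k - 1)`. -/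
def sumL (A : List ℕ) : ℕ → List ℕ
  | 0 => List.replicate 16 0
  | k + 1 => addL (sumL A k) (powL A k)

/-- The 48 matrices. -/
def elts : List (List ℕ) := [
  [1, 0, 0, 0, 0, 1, 0, 0, 0, 0, 1, 0, 0, 0, 0, 1],
  [0, 12, 0, 0, 1, 0, 0, 0, 0, 0, 0, 12, 0, 0, 1, 0],
  [0, 0, 12, 0, 0, 0, 0, 1, 1, 0, 0, 0, 0, 12, 0, 0],
  [7, 6, 6, 6, 7, 7, 6, 7, 7, 7, 7, 6, 7, 6, 7, 7],
  [12, 12, 10, 12, 1, 12, 1, 10, 12, 10, 1, 1, 3, 12, 12, 1],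
  [12, 0, 0, 0, 0, 12, 0, 0, 0, 0, 12, 0, 0, 0, 0, 12],
  [0, 0, 0, 12, 0, 0, 12, 0, 0, 1, 0, 0, 1, 0, 0, 0],
  [6, 6, 7, 6, 7, 6, 6, 6, 6, 7, 6, 6, 7, 7, 7, 6],
  [12, 1, 12, 3, 12, 12, 10, 12, 10, 1, 1, 12, 12, 10, 1, 1],
  [0, 0, 0, 1, 0, 0, 1, 0, 0, 12, 0, 0, 12, 0, 0, 0],
  [6, 6, 6, 7, 7, 6, 7, 7, 7, 6, 6, 6, 6, 6, 7, 6],
  [1, 3, 12, 12, 3, 12, 12, 1, 12, 12, 10, 12, 12, 1, 12, 3],
  [6, 7, 6, 6, 6, 6, 6, 7, 7, 7, 6, 7, 7, 6, 6, 6],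
  [6, 6, 6, 6, 7, 6, 6, 7, 7, 7, 6, 6, 7, 6, 7, 6],
  [11, 2, 11, 0, 2, 0, 11, 11, 11, 11, 0, 11, 0, 11, 11, 2],
  [10, 1, 1, 12, 1, 3, 12, 12, 1, 12, 1, 10, 12, 12, 10, 12],
  [10, 12, 12, 1, 12, 1, 12, 10, 12, 12, 3, 12, 1, 10, 12, 12],
  [0, 1, 0, 0, 12, 0, 0, 0, 0, 0, 0, 1, 0, 0, 12, 0],
  [0, 0, 1, 0, 0, 0, 0, 12, 12, 0, 0, 0, 0, 1, 0, 0],
  [6, 7, 7, 7, 6, 6, 7, 6, 6, 6, 6, 7, 6, 7, 6, 6],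
  [1, 1, 3, 1, 12, 1, 12, 3, 1, 3, 12, 12, 10, 1, 1, 12],
  [7, 7, 7, 6, 6, 7, 6, 6, 6, 7, 7, 7, 7, 7, 6, 7],
  [6, 7, 7, 6, 6, 6, 6, 6, 6, 7, 6, 7, 7, 7, 6, 6],
  [11, 0, 2, 2, 11, 2, 11, 0, 0, 2, 2, 11, 11, 11, 0, 11],
  [12, 10, 1, 1, 10, 1, 1, 12, 1, 1, 3, 1, 1, 12, 1, 10],
  [1, 12, 1, 3, 10, 12, 12, 1, 12, 3, 1, 1, 12, 12, 3, 12],
  [7, 6, 7, 7, 7, 7, 7, 6, 6, 6, 7, 6, 6, 7, 7, 7],
  [3, 12, 12, 1, 12, 10, 1, 1, 12, 1, 12, 3, 1, 1, 3, 1],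
  [6, 6, 7, 7, 7, 6, 7, 6, 6, 6, 6, 6, 6, 7, 7, 6],
  [2, 2, 0, 2, 0, 11, 11, 2, 11, 2, 11, 0, 11, 0, 2, 2],
  [1, 1, 10, 1, 1, 10, 12, 12, 10, 12, 12, 1, 1, 12, 1, 3],
  [7, 7, 6, 7, 6, 7, 7, 7, 7, 6, 7, 7, 6, 6, 6, 7],
  [6, 7, 6, 7, 6, 6, 7, 7, 7, 6, 6, 7, 6, 6, 6, 6],
  [0, 2, 2, 11, 2, 2, 0, 2, 2, 0, 11, 11, 11, 2, 11, 0],
  [12, 3, 1, 1, 1, 1, 10, 1, 12, 1, 12, 10, 10, 12, 12, 1],
  [12, 12, 3, 12, 12, 3, 1, 1, 3, 1, 1, 12, 12, 1, 12, 10],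
  [1, 12, 1, 10, 1, 1, 3, 1, 3, 12, 12, 1, 1, 3, 12, 12],
  [7, 7, 7, 7, 6, 7, 7, 6, 6, 6, 7, 7, 6, 7, 6, 7],
  [2, 11, 2, 0, 11, 0, 2, 2, 2, 2, 0, 2, 0, 2, 2, 11],
  [3, 1, 1, 12, 1, 12, 1, 3, 1, 1, 10, 1, 12, 3, 1, 1],
  [7, 7, 6, 6, 6, 7, 6, 7, 7, 7, 7, 7, 7, 6, 6, 7],
  [11, 11, 0, 11, 0, 2, 2, 11, 2, 11, 2, 0, 2, 0, 11, 11],
  [1, 10, 12, 12, 12, 12, 3, 12, 1, 12, 1, 3, 3, 1, 1, 12],
  [7, 6, 7, 6, 7, 7, 6, 6, 6, 7, 7, 6, 7, 7, 7, 7],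
  [0, 11, 11, 2, 11, 11, 0, 11, 11, 0, 2, 2, 2, 11, 2, 0],
  [7, 6, 6, 7, 7, 7, 7, 7, 7, 6, 7, 6, 6, 6, 7, 7],
  [2, 0, 11, 11, 2, 11, 2, 0, 0, 11, 11, 2, 2, 2, 0, 2],
  [12, 1, 12, 10, 3, 1, 1, 12, 1, 10, 12, 12, 1, 1, 10, 1]]

theorem elts_mul : (elts.all fun a => elts.all fun b => elts.contains (mulL a b)) = true := by
  decide +kernel

theorem elts_one : elts.contains oneL = true := by decide +kernel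

theorem elts_orders : (elts.all fun a => a == oneL || [2, 3, 4, 6, 8].any fun k =>
    powL a k == oneL && sumL a k == List.replicate 16 0 &&
      (List.range k).all fun j => j == 0 || powL a j != oneL) = true := by
  decide +kernel

theorem elts_nodup : elts.Nodup := by decide +kernel

theorem elts_witness : ([2, 3, 4, 6, 8].all fun k => elts.any fun a =>
    powL a k == oneL && (List.range k).all fun j => j == 0 || powL a j != oneL) = true := by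
  decide +kernel

theorem elts_length : elts.length = 48 := by decide +kernel

theorem elts_wf : (elts.all fun a => a.length == 16 && a.all fun x => Nat.blt x 13) = true := by
  decide +kernel

end CfsgLib.SpectrumL33
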