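import Cfsg.Agent.Lib.SpectrumL33.Data
import Cfsg.Agent.Lib.CharTheory.Burnside

/-!
`13^4 : 2·S₄`, a solvable group with element orders `1, 2, 3, 4, 6, 8, 13`.
-/

namespace CfsgLib.SpectrumL33

open Matrix

local notation "M4" => Matrix (Fin 4) (Fin 4) (ZMod 13)
local notation "V4" => Fin 4 → ZMod 13

/-- The matrix stored in a list. -/
def toMat (A : List ℕ) : M4 := Matrix.of fun i j => (A.getD (4 * i.val + j.val) 0 : ZMod 13)

theorem getD_map_range (f : ℕ → ℕ) {t : ℕ} (ht : t < 16) :
    ((List.range 16).map f).getD t 0 = f t := by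
  simp [List.getD, ht]

theorem toMat_mul (A B : List ℕ) : toMat (mulL A B) = toMat A * toMat B := by
  ext i j
  simp only [toMat, mulL, Matrix.mul_apply, Fin.sum_univ_four, Matrix.of_apply]
  rw [getD_map_range _ (by omega), ZMod.natCast_mod]
  rw [show (4 * i.val + j.val) / 4 = i.val by omega, show (4 * i.val + j.val) % 4 = j.val by omega]
  simp

theorem toMat_add (A B : List ℕ) : toMat (addL A B) = toMat A + toMat B := by
  ext i j
  simp only [toMat, addL, Matrix.add_apply, Matrix.of_apply]
  rw [getD_map_range _ (by omega), ZMod.natCast_mod, Nat.cast_add]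

theorem toMat_one : toMat oneL = 1 := by
  ext i j
  fin_cases i <;> fin_cases j <;> rfl

theorem toMat_zero : toMat (List.replicate 16 0) = 0 := by
  ext i j
  fin_cases i <;> fin_cases j <;> rfl

theorem toMat_pow (A : List ℕ) : ∀ k, toMat (powL A k) = toMat A ^ k
  | 0 => by rw [pow_zero]; exact toMat_one
  | k + 1 => by rw [pow_succ, powL, toMat_mul, toMat_pow A k]

theorem toMat_sum (A : List ℕ) : ∀ k, toMat (sumL A k) = ∑ j ∈ Finset.range k, toMat A ^ j
  | 0 => by rw [Finset.sum_range_zero]; exact toMat_zero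
  | k + 1 => by rw [Finset.sum_range_succ, sumL, toMat_add, toMat_sum A k, toMat_pow]

theorem toMat_inj {a b : List ℕ} (ha : a ∈ elts) (hb : b ∈ elts) (h : toMat a = toMat b) :
    a = b := by
  have hw := elts_wf
  simp only [List.all_eq_true, Bool.and_eq_true, beq_iff_eq, Nat.blt_eq] at hw
  obtain ⟨hla, hba⟩ := hw a ha
  obtain ⟨hlb, hbb⟩ := hw b hb
  refine List.ext_getElem (by omega) fun t h1 h2 => ?_
  have := congrFun (congrFun h ⟨t / 4, by omega⟩) ⟨t % 4, by omega⟩
  simp only [toMat, Matrix.of_apply, show 4 * (t / 4) + t % 4 = t by omega] at this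
  rw [List.getD_eq_getElem _ _ h1, List.getD_eq_getElem _ _ h2] at this
  have hlt1 : a[t] < 13 := hba _ (List.getElem_mem h1)
  have hlt2 : b[t] < 13 := hbb _ (List.getElem_mem h2)
  have h3 := congrArg ZMod.val this
  rwa [ZMod.val_natCast, ZMod.val_natCast, Nat.mod_eq_of_lt hlt1, Nat.mod_eq_of_lt hlt2] at h3

theorem mem_mul {a b : List ℕ} (ha : a ∈ elts) (hb : b ∈ elts) : mulL a b ∈ elts := by
  have h := elts_mul
  simp only [List.all_eq_true, List.contains_iff_mem] at h
  exact h a ha b hb

theorem one_mem_elts : oneL ∈ elts := List.contains_iff_mem.mp elts_one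

theorem pow_mem_elts {a : List ℕ} (ha : a ∈ elts) : ∀ k, powL a k ∈ elts
  | 0 => one_mem_elts
  | k + 1 => mem_mul (pow_mem_elts ha k) ha

theorem order_data {a : List ℕ} (ha : a ∈ elts) : a = oneL ∨ ∃ k ∈ [2, 3, 4, 6, 8],
    toMat a ^ k = 1 ∧ (∑ j ∈ Finset.range k, toMat a ^ j) = 0 ∧
      ∀ j, 0 < j → j < k → powL a j ≠ oneL := by
  have h := elts_orders
  simp only [List.all_eq_true, Bool.or_eq_true, beq_iff_eq, List.any_eq_true, Bool.and_eq_true,
    List.mem_range, bne_iff_ne] at h
  rcases h a ha with h | ⟨k, hk, ⟨h1, h2⟩, h3⟩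
  · exact Or.inl h
  · refine Or.inr ⟨k, hk, ?_, ?_, fun j hj hjk => ?_⟩
    · rw [← toMat_pow, h1, toMat_one]
    · rw [← toMat_sum, h2, toMat_zero]
    · exact (h3 j hjk).resolve_left (by omega)

/-- The binary octahedral group inside `GL_4(13)`. -/
def O48 : Subgroup (GL (Fin 4) (ZMod 13)) where
  carrier := {g | ∃ a ∈ elts, toMat a = g.val}
  one_mem' := ⟨oneL, one_mem_elts, toMat_one⟩
  mul_mem' := by
    rintro g h ⟨a, ha, hga⟩ ⟨b, hb, hhb⟩
    exact ⟨mulL a b, mem_mul ha hb, by rw [toMat_mul, hga, hhb]; rfl⟩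
  inv_mem' := by
    rintro g ⟨a, ha, hga⟩
    obtain ⟨k, hk, hk1⟩ : ∃ k, 1 ≤ k ∧ toMat a ^ k = 1 := by
      rcases order_data ha with rfl | ⟨k, hk, hk1, -⟩
      · exact ⟨1, le_rfl, by rw [pow_one, toMat_one]⟩
      · simp at hk
        exact ⟨k, by omega, hk1⟩
    refine ⟨powL a (k - 1), pow_mem_elts ha _, ?_⟩
    rw [toMat_pow, hga]
    have h1 : g ^ k = 1 := Units.ext (by rw [Units.val_pow_eq_pow_val, ← hga, hk1]; rfl)
    have h2 : g⁻¹ = g ^ (k - 1) := inv_eq_of_mul_eq_one_right (by
      rw [← pow_succ', show k - 1 + 1 = k by omega, h1])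
    rw [h2, Units.val_pow_eq_pow_val]

theorem exists_unit {a : List ℕ} (ha : a ∈ elts) : ∃ g : O48, g.1.val = toMat a := by
  rcases order_data ha with rfl | ⟨k, hk, hk1, -⟩
  · exact ⟨1, toMat_one.symm⟩
  · simp at hk
    have hu : IsUnit (toMat a) := IsUnit.of_pow_eq_one hk1 (by omega)
    exact ⟨⟨hu.unit, a, ha, hu.unit_spec.symm⟩, hu.unit_spec⟩

theorem card_O48 : Nat.card O48 = 48 := by
  have hf : ∀ g : O48, ∃ a : {a // a ∈ elts}, toMat a.1 = g.1.val := fun g =>
    let ⟨a, ha, h⟩ := g.2
    ⟨⟨a, ha⟩, h⟩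
  choose f hf using hf
  have hbij : Function.Bijective f := by
    refine ⟨fun g h hgh => ?_, fun a => ?_⟩
    · exact Subtype.ext (Units.ext (by rw [← hf g, ← hf h, hgh]))
    · obtain ⟨g, hg⟩ := exists_unit a.2
      exact ⟨g, Subtype.ext (toMat_inj (f g).2 a.2 ((hf g).trans hg))⟩
  rw [Nat.card_eq_of_bijective f hbij, Nat.card_eq_fintype_card,
    Fintype.card_of_subtype elts.toFinset (by simp), List.toFinset_card_of_nodup elts_nodup,
    elts_length]

theorem O48_solvable : Group.IsSolvable O48 :=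
  CfsgLib.CharTheory.isSolvable_of_card_two_primes (a := 4) (b := 1) Nat.prime_two Nat.prime_three
    (by rw [card_O48]; norm_num)

/-- The action on `F₁₃⁴`. -/
def act : O48 →* MulAut (Multiplicative V4) where
  toFun g := AddEquiv.toMultiplicative
    { toFun := fun v => g.1.val *ᵥ v
      invFun := fun v => (g⁻¹ : O48).1.val *ᵥ v
      left_inv := fun v => by
        show (g⁻¹ : O48).1.val *ᵥ (g.1.val *ᵥ v) = v
        rw [mulVec_mulVec, ← Units.val_mul, ← Subgroup.coe_mul, inv_mul_cancel]
        simp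
      right_inv := fun v => by
        show g.1.val *ᵥ ((g⁻¹ : O48).1.val *ᵥ v) = v
        rw [mulVec_mulVec, ← Units.val_mul, ← Subgroup.coe_mul, mul_inv_cancel]
        simp
      map_add' := fun v w => mulVec_add _ v w }
  map_one' := by
    refine MulEquiv.ext fun v => ?_
    exact congrArg Multiplicative.ofAdd (one_mulVec (Multiplicative.toAdd v))
  map_mul' g h := by
    refine MulEquiv.ext fun v => ?_
    exact congrArg Multiplicative.ofAdd
      (mulVec_mulVec (Multiplicative.toAdd v) g.1.val h.1.val).symm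

/-- The group `13^4 : 2·S₄`. -/
abbrev Grp : Type := Multiplicative V4 ⋊[act] O48

theorem grp_solvable : Group.IsSolvable Grp := by
  haveI := O48_solvable
  refine Group.isSolvable_of_ker_le_range (SemidirectProduct.inl (φ := act))
    SemidirectProduct.rightHom ?_
  rw [SemidirectProduct.range_inl_eq_ker_rightHom]

theorem pow_left (x : Grp) : ∀ k, Multiplicative.toAdd (x ^ k).left =
    (∑ j ∈ Finset.range k, x.right.1.val ^ j) *ᵥ Multiplicative.toAdd x.left ∧
      (x ^ k).right = x.right ^ k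
  | 0 => by simp
  | k + 1 => by
    obtain ⟨h1, h2⟩ := pow_left x k
    refine ⟨?_, by rw [pow_succ, SemidirectProduct.mul_right, h2, pow_succ]⟩
    rw [pow_succ, SemidirectProduct.mul_left, toAdd_mul, h1, h2, Finset.sum_range_succ,
      add_mulVec]
    congr 1

theorem orders_O48 (g : O48) (hg : g ≠ 1) : orderOf g ∈ [2, 3, 4, 6, 8] ∧
    ∀ k, k = orderOf g → (∑ j ∈ Finset.range k, g.1.val ^ j) = 0 := by
  obtain ⟨a, ha, hag⟩ := g.2
  rcases order_data ha with rfl | ⟨k, hk, h1, h2, h3⟩
  · exact absurd (Subtype.ext (Units.ext (hag.symm.trans toMat_one))) hg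
  · have hk0 : 0 < k := by simp at hk; omega
    have hord : orderOf g = k := by
      refine (orderOf_eq_iff hk0).mpr ⟨Subtype.ext (Units.ext ?_), fun j hj hj0 hgj => ?_⟩
      · rw [Subgroup.coe_pow, Units.val_pow_eq_pow_val, ← hag, h1]; rfl
      · refine h3 j hj0 hj (toMat_inj (pow_mem_elts ha j) one_mem_elts ?_)
        rw [toMat_pow, toMat_one, hag, ← Units.val_pow_eq_pow_val, ← Subgroup.coe_pow, hgj]
        rfl
    refine ⟨by rw [hord]; exact hk, fun l hl => ?_⟩
    rw [hl, hord, ← hag]
    exact h2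

theorem orders_Grp : Set.range (orderOf : Grp → ℕ) = {1, 2, 3, 4, 6, 8, 13} := by
  apply Set.Subset.antisymm
  · rintro m ⟨x, rfl⟩
    by_cases hr : x.right = 1
    · have h13 : x ^ 13 = 1 := by
        obtain ⟨h1, h2⟩ := pow_left x 13
        refine SemidirectProduct.ext ?_ (by rw [h2, hr, one_pow]; rfl)
        apply Multiplicative.toAdd.injective
        rw [h1, hr]
        simp only [OneMemClass.coe_one, Units.val_one, one_pow, Finset.sum_const, Finset.card_range]
        rw [show (13 : ℕ) • (1 : M4) = 0 by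
          rw [nsmul_one]; exact CharP.cast_eq_zero M4 13]
        simp
      rcases (Nat.dvd_prime (by norm_num : Nat.Prime 13)).mp (orderOf_dvd_of_pow_eq_one h13) with
        h | h <;> simp [h]
    · obtain ⟨hk, hs⟩ := orders_O48 x.right hr
      have hord : orderOf x = orderOf x.right := by
        apply Nat.dvd_antisymm
        · apply orderOf_dvd_of_pow_eq_one
          obtain ⟨h1, h2⟩ := pow_left x (orderOf x.right)
          refine SemidirectProduct.ext ?_ (by rw [h2, pow_orderOf_eq_one]; rfl)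
          apply Multiplicative.toAdd.injective
          rw [h1, hs _ rfl]
          simp
        · exact orderOf_map_dvd SemidirectProduct.rightHom x
      simp at hk
      simp only [Set.mem_insert_iff, Set.mem_singleton_iff, hord]
      omega
  · intro m hm
    simp only [Set.mem_insert_iff, Set.mem_singleton_iff] at hm
    rcases (show m = 1 ∨ m = 13 ∨ m ∈ [2, 3, 4, 6, 8] by simp; omega) with rfl | rfl | hm
    · exact ⟨1, orderOf_one⟩
    · refine ⟨SemidirectProduct.inl (Multiplicative.ofAdd ![1, 0, 0, 0]), ?_⟩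
      haveI : Fact (Nat.Prime 13) := ⟨by norm_num⟩
      rw [orderOf_injective _ SemidirectProduct.inl_injective]
      refine orderOf_eq_prime ?_ (by decide)
      apply Multiplicative.toAdd.injective
      ext i
      simp only [toAdd_pow, toAdd_ofAdd, Pi.smul_apply, toAdd_one, Pi.zero_apply, nsmul_eq_mul]
      rw [ZMod.natCast_self, zero_mul]
    · have h := elts_witness
      simp only [List.all_eq_true, List.any_eq_true, Bool.and_eq_true, beq_iff_eq, List.mem_range,
        Bool.or_eq_true, bne_iff_ne] at h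
      obtain ⟨a, ha, h1, h3⟩ := h m hm
      obtain ⟨g, hg⟩ := exists_unit ha
      refine ⟨SemidirectProduct.inr g, ?_⟩
      rw [orderOf_injective _ SemidirectProduct.inr_injective]
      have hm0 : 0 < m := by simp at hm; omega
      refine (orderOf_eq_iff hm0).mpr ⟨Subtype.ext (Units.ext ?_), fun j hj hj0 hgj => ?_⟩
      · rw [Subgroup.coe_pow, Units.val_pow_eq_pow_val, hg, ← toMat_pow, h1, toMat_one]; rfl
      · refine ((h3 j hj).resolve_left (by omega)) (toMat_inj (pow_mem_elts ha j) one_mem_elts ?_)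
        rw [toMat_pow, toMat_one, ← hg, ← Units.val_pow_eq_pow_val, ← Subgroup.coe_pow, hgj]
        rfl

end CfsgLib.SpectrumL33
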