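import Cfsg.Agent.Lib.SpectrumL33.SL3Data

/-!
The element orders of `SL₃(3)` divide 6, 8 or 13.
-/

namespace CfsgLib.SpectrumL33

open Matrix

local notation "M3" => Matrix (Fin 3) (Fin 3) (ZMod 3)
local notation "SL3" => Matrix.SpecialLinearGroup (Fin 3) (ZMod 3)

/-- The code of a matrix. -/
def code (M : M3) : T9 :=
  ((M 0 0).val, (M 0 1).val, (M 0 2).val, (M 1 0).val, (M 1 1).val, (M 1 2).val,
    (M 2 0).val, (M 2 1).val, (M 2 2).val)

theorem code_injective : Function.Injective code := by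
  intro A B h
  simp only [code, Prod.mk.injEq] at h
  obtain ⟨h0, h1, h2, h3, h4, h5, h6, h7, h8⟩ := h
  ext i j
  fin_cases i <;> fin_cases j <;> apply ZMod.val_injective <;> assumption

theorem code_mul (A B : M3) : code (A * B) = mulT (code A) (code B) := by
  simp only [code, mulT, Matrix.mul_apply, Fin.sum_univ_three, ZMod.val_add, ZMod.val_mul,
    Nat.add_mod_mod, Nat.mod_add_mod]

theorem code_one : code 1 = oneT := rfl

theorem code_pow (A : M3) : ∀ k, code (A ^ k) = powT (code A) k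
  | 0 => by rw [pow_zero, code_one]; rfl
  | k + 1 => by rw [pow_succ, code_mul, code_pow A k]; rfl

theorem det_code (A : M3) : ((detT (code A) : ℕ) : ZMod 3) = A.det := by
  simp only [code, detT, ZMod.natCast_mod, Nat.cast_add, Nat.cast_mul, ZMod.natCast_val,
    ZMod.cast_id', id_eq, Matrix.det_fin_three]
  ring_nf
  simp [show (2 : ZMod 3) = -1 from rfl]
  ring

theorem pow_eq_one_cases (g : SL3) : g ^ 6 = 1 ∨ g ^ 8 = 1 ∨ g ^ 13 = 1 := by
  have h := all_ok
  simp only [List.all_eq_true] at h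
  have hmem : ∀ x : ZMod 3, x.val ∈ [0, 1, 2] := by decide
  have := h _ (hmem (g.1 0 0)) _ (hmem (g.1 0 1)) _ (hmem (g.1 0 2)) _ (hmem (g.1 1 0))
    _ (hmem (g.1 1 1)) _ (hmem (g.1 1 2)) _ (hmem (g.1 2 0)) _ (hmem (g.1 2 1)) _ (hmem (g.1 2 2))
  change okT (code g.1) = true at this
  simp only [okT, Bool.or_eq_true, bne_iff_ne, ne_eq, beq_iff_eq] at this
  have hdet : detT (code g.1) = 1 := by
    have h1 : ((detT (code g.1) : ℕ) : ZMod 3) = 1 := by rw [det_code]; exact g.2
    have h2 : detT (code g.1) < 3 := Nat.mod_lt _ (by norm_num)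
    have h3 := congrArg ZMod.val h1
    rwa [ZMod.val_natCast, Nat.mod_eq_of_lt h2, ZMod.val_one] at h3
  have key : ∀ k, powT (code g.1) k = oneT → g ^ k = 1 := fun k hk => by
    apply Subtype.ext
    apply code_injective
    show code ((g ^ k).1) = code (1 : M3)
    rw [show (g ^ k).1 = g.1 ^ k from Matrix.SpecialLinearGroup.coe_pow g k, code_pow, hk]
    exact code_one.symm
  rcases this with ((h1 | h1) | h1) | h1
  · exact absurd hdet h1
  · exact Or.inl (key _ h1)
  · exact Or.inr (Or.inl (key _ h1))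
  · exact Or.inr (Or.inr (key _ h1))

theorem exists_order {m : ℕ} (hm : m ∈ [1, 2, 3, 4, 6, 8, 13]) : ∃ g : SL3, orderOf g = m := by
  have key : ∀ (M : M3) (k : ℕ), 0 < k → detT (code M) = 1 → powT (code M) k = oneT →
      ((List.range k).all fun j => j == 0 || powT (code M) j != oneT) = true →
      ∃ g : SL3, orderOf g = k := fun M k hk hd h1 h2 => by
    refine ⟨⟨M, by rw [← det_code, hd]; rfl⟩, ?_⟩
    simp only [List.all_eq_true, Bool.or_eq_true, beq_iff_eq, List.mem_range, bne_iff_ne] at h2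
    refine (orderOf_eq_iff hk).mpr ⟨?_, fun j hj hj0 h => ?_⟩
    · apply Subtype.ext
      apply code_injective
      exact (congrArg code (Matrix.SpecialLinearGroup.coe_pow _ k)).trans
        ((code_pow M k).trans (h1.trans code_one.symm))
    · refine (h2 j hj).resolve_left (by omega) ?_
      rw [← code_pow, ← code_one]
      exact congrArg code ((Matrix.SpecialLinearGroup.coe_pow _ j).symm.trans (congrArg Subtype.val h))
  simp only [List.mem_cons, List.not_mem_nil, or_false] at hm
  rcases hm with rfl | rfl | rfl | rfl | rfl | rfl | rfl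
  · exact ⟨1, orderOf_one⟩
  · exact key !![0, 0, 1; 0, 2, 0; 1, 0, 0] 2 (by norm_num) (by rfl) (by rfl) (by rfl)
  · exact key !![0, 0, 1; 0, 1, 0; 2, 0, 2] 3 (by norm_num) (by rfl) (by rfl) (by rfl)
  · exact key !![0, 0, 1; 0, 1, 0; 2, 0, 0] 4 (by norm_num) (by rfl) (by rfl) (by rfl)
  · exact key !![0, 0, 1; 0, 1, 0; 2, 0, 1] 6 (by norm_num) (by rfl) (by rfl) (by rfl)
  · exact key !![0, 0, 1; 0, 1, 1; 2, 1, 0] 8 (by norm_num) (by rfl) (by rfl) (by rfl)
  · exact key !![0, 0, 1; 0, 1, 1; 2, 1, 1] 13 (by norm_num) (by rfl) (by rfl) (by rfl)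

theorem orders_SL3 : Set.range (orderOf : SL3 → ℕ) = {1, 2, 3, 4, 6, 8, 13} := by
  apply Set.Subset.antisymm
  · rintro m ⟨g, rfl⟩
    simp only [Set.mem_insert_iff, Set.mem_singleton_iff]
    rcases pow_eq_one_cases g with h | h | h <;> have h' := orderOf_dvd_of_pow_eq_one h <;>
      have := Nat.le_of_dvd (by norm_num) h' <;> revert h' <;> interval_cases orderOf g <;> omega
  · intro m hm
    obtain ⟨g, hg⟩ := exists_order (m := m) (by simpa using hm)
    exact ⟨g, hg⟩

end CfsgLib.SpectrumL33
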