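import Mathlib

/-!
The element orders of `SL₃(3)` are `1, 2, 3, 4, 6, 8, 13`.
-/

namespace CfsgLib.SpectrumL33

open Matrix

/-- `3 × 3` matrices modulo 3 stored as nine naturals. -/
abbrev T9 := ℕ × ℕ × ℕ × ℕ × ℕ × ℕ × ℕ × ℕ × ℕ

/-- Product modulo 3. -/
def mulT : T9 → T9 → T9
  | (a, b, c, d, e, f, g, h, i), (A, B, C, D, E, F, G, H, I) =>
    ((a * A + b * D + c * G) % 3, (a * B + b * E + c * H) % 3, (a * C + b * F + c * I) % 3,
      (d * A + e * D + f * G) % 3, (d * B + e * E + f * H) % 3, (d * C + e * F + f * I) % 3,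
      (g * A + h * D + i * G) % 3, (g * B + h * E + i * H) % 3, (g * C + h * F + i * I) % 3)

/-- The identity. -/
def oneT : T9 := (1, 0, 0, 0, 1, 0, 0, 0, 1)

/-- Determinant modulo 3. -/
def detT : T9 → ℕ
  | (a, b, c, d, e, f, g, h, i) =>
    (a * e * i + b * f * g + c * d * h + 2 * (c * e * g + a * f * h + b * d * i)) % 3

/-- Powers. -/
def powT (A : T9) : ℕ → T9
  | 0 => oneT
  | k + 1 => mulT (powT A k) A

/-- The order of the element divides 6, 8 or 13. -/
def okT (A : T9) : Bool :=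
  detT A != 1 || powT A 6 == oneT || powT A 8 == oneT || powT A 13 == oneT

theorem all_ok : ([0, 1, 2].all fun a => [0, 1, 2].all fun b => [0, 1, 2].all fun c =>
    [0, 1, 2].all fun d => [0, 1, 2].all fun e => [0, 1, 2].all fun f =>
    [0, 1, 2].all fun g => [0, 1, 2].all fun h => [0, 1, 2].all fun i =>
      okT (a, b, c, d, e, f, g, h, i)) = true := by
  decide +kernel

end CfsgLib.SpectrumL33
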